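import Cfsg.Agent.Lib.CosetTable.Lanes.Fi24.Grow

/-!
Kernel evaluable tools on the 306936 lanes of Fi24: the image of one lane under a word, and the bit
vector of the lanes on which two words agree.
-/

set_option maxRecDepth 100000
set_option Elab.async false

namespace Cfsg.Agent.Lib.Fi24Class56

open Cfsg.Agent.Lib.CosetTable.Lanes Cfsg.Agent.Lib.CosetTable.Lanes.Fi24

/-- bit `i` of `m` -/
noncomputable def bitB (m i : Nat) : Bool := Nat.beq (Nat.land (Nat.shiftRight m i) 1) 1

/-- the lane exchanged with `i` by a layer -/
noncomputable def layerPt (L : Layer) (i : Nat) : Nat :=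
  Bool.rec (motive := fun _ => Nat)
    (Bool.rec (motive := fun _ => Nat) i
      (Bool.rec (motive := fun _ => Nat) i (Nat.sub i L.1) (bitB L.2 (Nat.sub i L.1)))
      (Nat.ble L.1 i))
    (Nat.add i L.1) (bitB L.2 i)

noncomputable def netPt (n : Net) : Nat → Nat :=
  List.rec (motive := fun _ => Nat → Nat) (fun i => i)
    (fun L _ ih i => strict (ih i) (layerPt L)) n

noncomputable def netsPt (p : List Net) : Nat → Nat :=
  List.rec (motive := fun _ => Nat → Nat) (fun i => i)
    (fun n _ ih i => strict (ih i) (netPt n)) p

/-- the image of lane `i` under the word `w` -/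
noncomputable def ptW (w : List Nat) : Nat → Nat :=
  List.rec (motive := fun _ => Nat → Nat) (fun i => i)
    (fun a _ ih i => strict (ih i) (netsPt (sys.perm a))) w

/-- the lanes on which the words `u` and `v` agree, on the planes `bs` -/
noncomputable def eqVecGo (S : Sys) (u v bs : List Nat) (acc : Nat) : Nat :=
  List.rec (motive := fun _ => Nat → Nat) (fun acc => acc)
    (fun b _ ih acc =>
      strict (plane b (Nat.sub 18 b)) fun P => strict (permRun (S.nets u) P) fun x =>
        strict (permRun (S.nets v) P) fun y =>
          strict (Nat.land acc (Nat.xor S.full (Nat.land S.full (Nat.xor x y)))) ih)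
    bs acc

/-- the planes -/
def allPlanes : List Nat := [0, 1, 2, 3, 4, 5, 6, 7, 8, 9, 10, 11, 12, 13, 14, 15, 16, 17, 18]

/-- the lanes on which the words `u` and `v` agree -/
noncomputable def eqVec (u v : List Nat) : Nat := strict sys.full (eqVecGo sys u v allPlanes)

/-- the lanes fixed by the word `w` -/
noncomputable def fixVec (w : List Nat) : Nat := eqVec w []

/-- the bit vector of a list of lanes -/
noncomputable def ofList (l : List Nat) : Nat :=
  List.rec (motive := fun _ => Nat) 0
    (fun i _ ih => strict ih fun x => Nat.lor x (Nat.shiftLeft 1 i)) l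

end Cfsg.Agent.Lib.Fi24Class56
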