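import Mathlib
import Cfsg.Agent.Lib.Fi24Class56.Ops
import Cfsg.Agent.Lib.CosetTable.Lanes.Fi24.Cosets

/-!
The transpositions of the presented Fi24 as a function of the 306936 lanes.  `Hyp` is what is used
from the certificate: the action is faithful and the centraliser of `l` fixes its lane.
-/

set_option maxRecDepth 100000

namespace Cfsg.Agent.Lib.Fi24Class56

open Cfsg.Agent.Lib.CosetTable.Lanes Cfsg.Agent.Lib.CosetTable.Lanes.Fi24

/-- the presented Fi24 -/
abbrev G : Type := Cfsg.Spor.Fi24

/-- the lanes -/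
abbrev Pt : Type := Fin sys.size

/-- what is used from the certificate -/
structure Hyp : Prop where
  inj : Function.Injective phi
  stab : ∀ x : G, Commute x (gn 0) → phi x pt = pt

/-! ### evaluation -/

theorem bitB_eq (m i : ℕ) : bitB m i = m.testBit i := by
  rw [bitB, Nat.testBit_eq_decide_div_mod_eq]
  show Nat.beq (m >>> i &&& 1) 1 = _
  rw [Nat.shiftRight_eq_div_pow, Nat.and_one_is_mod]
  by_cases h : m / 2 ^ i % 2 = 1
  · simp [h]
  · have : m / 2 ^ i % 2 = 0 := by omega
    rw [decide_eq_false h, this]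
    rfl

theorem layerPt_eq (L : Layer) (i : ℕ) : layerPt L i = layerPos L i := by
  unfold layerPt layerPos
  rw [bitB_eq, bitB_eq]
  cases h : L.2.testBit i
  · cases h' : Nat.ble L.1 i
    · have : ¬ L.1 ≤ i := fun hle => by rw [Nat.ble_eq_true_of_le hle] at h'; simp at h'
      simp [this]
    · have hle := Nat.le_of_ble_eq_true h'
      cases h'' : L.2.testBit (i - L.1)
      · simp [h'']
      · simp [h'', hle]
  · simp

theorem netPt_eq : ∀ (n : Net) (i : ℕ), netPt n i = netPos n i
  | [], _ => rfl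
  | L :: n, i => by
    show strict (netPt n i) (layerPt L) = _
    rw [strict_eq, layerPt_eq, netPt_eq n i]; rfl

theorem netsPt_eq : ∀ (p : List Net) (i : ℕ), netsPt p i = permPos p i
  | [], _ => rfl
  | n :: p, i => by
    show strict (netsPt p i) (netPt n) = _
    rw [strict_eq, netPt_eq, netsPt_eq p i]; rfl

theorem ptW_eq : ∀ (w : List ℕ) (i : ℕ), ptW w i = permPos (sys.nets w) i
  | [], _ => rfl
  | a :: w, i => by
    show strict (ptW w i) (netsPt (sys.perm a)) = _
    rw [strict_eq, netsPt_eq, ptW_eq w i, Sys.nets_cons, permPos_append]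

/-- a word of generators -/
def WordOK (w : List ℕ) : Prop := ∀ a ∈ w, a < 12

theorem phi_pw : ∀ {w : List ℕ}, WordOK w → phi (pw gn w) = pw perm w
  | [], _ => map_one phi
  | a :: w, h => by
    rw [pw_cons, pw_cons, map_mul, phi_gn (h a List.mem_cons_self),
      phi_pw (fun b hb => h b (List.mem_cons_of_mem _ hb))]

/-- `ptW` is the action -/
theorem phi_pw_val {w : List ℕ} (hw : WordOK w) (i : Pt) :
    (phi (pw gn w) i).val = ptW w i.val := by
  rw [phi_pw hw, perm_pw_apply, ptW_eq]

theorem nets_ok' (w : List ℕ) : permOK sys.size (sys.nets w) := by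
  induction w with
  | nil => intro n hn; exact (List.not_mem_nil hn).elim
  | cons a w ih =>
    intro n hn
    rw [Sys.nets_cons, List.mem_append] at hn
    exact hn.elim (perm_ok a n) (ih n)

theorem testBit_full' (S : Sys) (i : ℕ) : S.full.testBit i = decide (i < S.size) := by
  show (2 ^ S.size - 1).testBit i = _
  rw [Nat.testBit_two_pow_sub_one]

theorem eqVecGo_cons (S : Sys) (u v : List ℕ) (b : ℕ) (bs : List ℕ) (acc : ℕ) :
    eqVecGo S u v (b :: bs) acc = strict (plane b (Nat.sub 18 b)) fun P =>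
      strict (permRun (S.nets u) P) fun x => strict (permRun (S.nets v) P) fun y =>
        strict (Nat.land acc (Nat.xor S.full (Nat.land S.full (Nat.xor x y)))) fun acc' =>
          eqVecGo S u v bs acc' := rfl

theorem testBit_eqVecGo (S : Sys) (ok : ∀ w, permOK S.size (S.nets w)) (hS : S.size ≤ 2 ^ 19)
    (u v : List ℕ) (i : ℕ) (hi : i < S.size) : ∀ (bs : List ℕ) (acc : ℕ), (∀ b ∈ bs, b < 19) →
    (eqVecGo S u v bs acc).testBit i = (acc.testBit i &&
      bs.all fun b => (permPos (S.nets u) i).testBit b == (permPos (S.nets v) i).testBit b)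
  | [], acc, _ => by simp [eqVecGo]
  | b :: bs, acc, hb => by
    rw [eqVecGo_cons, strict_eq, strict_eq, strict_eq, strict_eq,
      testBit_eqVecGo S ok hS u v i hi bs _ (fun c hc => hb c (List.mem_cons_of_mem _ hc))]
    have hb19 : b < 19 := hb b List.mem_cons_self
    have key : ∀ w : List ℕ, (permRun (S.nets w) (plane b (Nat.sub 18 b))).testBit i =
        (permPos (S.nets w) i).testBit b := by
      intro w
      rw [testBit_permRun (ok w), testBit_plane, Nat.sub_eq,
        show b + 1 + (18 - b) = 19 by omega,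
        decide_eq_true (lt_of_lt_of_le (permPos_lt (ok w) i hi) hS), Bool.true_and]
    show ((acc &&& (S.full ^^^ (S.full &&& (permRun _ _ ^^^ permRun _ _)))).testBit i && _) = _
    rw [Nat.testBit_and, Nat.testBit_xor, Nat.testBit_and, Nat.testBit_xor, key, key,
      testBit_full', decide_eq_true hi, List.all_cons]
    cases (permPos (S.nets u) i).testBit b <;> cases (permPos (S.nets v) i).testBit b <;>
      cases acc.testBit i <;> simp

theorem planes_iff (b : ℕ) : b < 19 ↔ b ∈ allPlanes := by
  constructor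
  · exact (by decide : ∀ b < 19, b ∈ allPlanes) b
  · exact (by decide : ∀ b ∈ allPlanes, b < 19) b

theorem size_le : sys.size ≤ 2 ^ 19 := le_of_eq_of_le size_eq (by norm_num)

theorem testBit_eqVec (u v : List ℕ) (i : Pt) :
    (eqVec u v).testBit i.val = decide (ptW u i.val = ptW v i.val) := by
  rw [eqVec, strict_eq, testBit_eqVecGo sys nets_ok' size_le u v i.val i.2 _ _
      (fun b hb => (planes_iff b).2 hb), testBit_full', decide_eq_true i.2, Bool.true_and, ptW_eq,
    ptW_eq, Bool.eq_iff_iff]
  simp only [List.all_eq_true, beq_iff_eq, decide_eq_true_eq]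
  refine ⟨fun h => Nat.eq_of_testBit_eq fun b => ?_, fun h b _ => by rw [h]⟩
  by_cases hb : b < 19
  · exact h b ((planes_iff b).1 hb)
  · have h19 : 2 ^ 19 ≤ 2 ^ b := Nat.pow_le_pow_right (by norm_num) (by omega)
    have hs := size_le
    have hu := permPos_lt (nets_ok' u) i.val i.2
    have hv := permPos_lt (nets_ok' v) i.val i.2
    rw [Nat.testBit_lt_two_pow (by omega), Nat.testBit_lt_two_pow (by omega)]

theorem testBit_fixVec {w : List ℕ} (hw : WordOK w) (i : Pt) :
    (fixVec w).testBit i.val = decide (phi (pw gn w) i = i) := by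
  rw [fixVec, testBit_eqVec, decide_eq_decide, Fin.ext_iff, phi_pw_val hw]
  rfl

theorem testBit_ofList : ∀ (l : List ℕ) (i : ℕ), (ofList l).testBit i = decide (i ∈ l)
  | [], i => by simp [ofList]
  | a :: l, i => by
    show (strict (ofList l) fun x => Nat.lor x (Nat.shiftLeft 1 a)).testBit i = _
    rw [strict_eq]
    show (ofList l ||| 1 <<< a).testBit i = _
    rw [Nat.testBit_or, testBit_ofList l i, Nat.one_shiftLeft, Nat.testBit_two_pow, Bool.eq_iff_iff]
    simp only [Bool.or_eq_true, decide_eq_true_eq, List.mem_cons]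
    constructor
    · rintro (h | h)
      · exact Or.inr h
      · exact Or.inl h.symm
    · rintro (h | h)
      · exact Or.inr h.symm
      · exact Or.inl h

/-! ### the transpositions -/

theorem mem_sub_of_fix {x : G} (h : phi x pt = pt) : x ∈ sub := by
  have h1 : lane (x : G ⧸ sub) = lane ((1 : G) : G ⧸ sub) := by
    rw [lane_mk, lane_mk, map_one, Equiv.Perm.one_apply, h]
  have h2 := QuotientGroup.eq.1 (lane_bijective.1 h1)
  rw [mul_one] at h2
  exact inv_mem_iff.1 h2

theorem comm_zero_of_mem {x : G} (hx : x ∈ sub) : Commute x (gn 0) := by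
  induction hx using Subgroup.closure_induction with
  | mem y hy =>
    obtain ⟨g, ⟨hg, h1⟩, rfl⟩ := hy
    have hc : ∀ g < 12, g ≠ 1 → commB g 0 = true := by decide
    exact gn_comm g 0 (hc g hg h1)
  | one => exact Commute.one_left _
  | mul y z _ _ hy hz => exact hy.mul_left hz
  | inv y _ hy => exact hy.inv_left

/-- an element moving the lane of `l` to `i` -/
noncomputable def mover (i : Pt) : G := (reach i).choose

theorem phi_mover (i : Pt) : phi (mover i) pt = i := (reach i).choose_spec

/-- the transposition of a lane -/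
noncomputable def d (i : Pt) : G := mover i * gn 0 * (mover i)⁻¹

theorem d_eq {x : G} {i : Pt} (h : phi x pt = i) : d i = x * gn 0 * x⁻¹ := by
  have hc : Commute ((mover i)⁻¹ * x) (gn 0) := comm_zero_of_mem <| mem_sub_of_fix <| by
    rw [map_mul, map_inv, Equiv.Perm.mul_apply, h, Equiv.Perm.inv_eq_iff_eq, phi_mover]
  calc mover i * gn 0 * (mover i)⁻¹
      = mover i * (gn 0 * ((mover i)⁻¹ * x)) * x⁻¹ := by group
    _ = mover i * ((mover i)⁻¹ * x * gn 0) * x⁻¹ := by rw [hc.eq]
    _ = x * gn 0 * x⁻¹ := by group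

theorem d_pt : d pt = gn 0 := by
  rw [d_eq (x := 1) (by rw [map_one]; rfl)]; group

theorem d_smul (g : G) (i : Pt) : d (phi g i) = g * d i * g⁻¹ := by
  rw [d_eq (x := g * mover i) (by rw [map_mul, Equiv.Perm.mul_apply, phi_mover]), d]
  group

theorem d_mul_self (i : Pt) : d i * d i = 1 := by
  rw [d, show mover i * gn 0 * (mover i)⁻¹ * (mover i * gn 0 * (mover i)⁻¹) =
    mover i * (gn 0 * gn 0) * (mover i)⁻¹ by group, gn_mul_self, mul_one, mul_inv_cancel]

theorem d_inv (i : Pt) : (d i)⁻¹ = d i := inv_eq_of_mul_eq_one_right (d_mul_self i)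

/-- the word of the transposition at the end of the path `w` -/
def dWord (w : List ℕ) : List ℕ := w ++ 0 :: w.reverse

theorem dWord_ok {w : List ℕ} (hw : WordOK w) : WordOK (dWord w) := by
  intro a ha
  simp only [dWord, List.mem_append, List.mem_cons, List.mem_reverse] at ha
  rcases ha with h | rfl | h
  exacts [hw a h, by norm_num, hw a h]

/-- `d` along a path of generators -/
theorem d_of_path {w : List ℕ} (hw : WordOK w) {i : Pt} (h : ptW w base = i.val) :
    d i = pw gn (dWord w) := by
  rw [d_eq (x := pw gn w) (Fin.ext ((phi_pw_val hw pt).trans h)), dWord, pw_append, pw_cons,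
    pw_reverse, mul_assoc]

/-! ### the twelve lanes of the generators -/

/-- a path from `l` to each generator -/
def chain : ℕ → List ℕ
  | 1 => [0, 1]
  | 2 => [1, 2, 0, 1]
  | 3 => [2, 3, 1, 2, 0, 1]
  | 4 => [3, 4, 2, 3, 1, 2, 0, 1]
  | 5 => [4, 5, 3, 4, 2, 3, 1, 2, 0, 1]
  | 6 => [5, 6, 4, 5, 3, 4, 2, 3, 1, 2, 0, 1]
  | 10 => [5, 10, 4, 5, 3, 4, 2, 3, 1, 2, 0, 1]
  | 7 => [6, 7, 5, 6, 4, 5, 3, 4, 2, 3, 1, 2, 0, 1]
  | 8 => [7, 8, 6, 7, 5, 6, 4, 5, 3, 4, 2, 3, 1, 2, 0, 1]
  | 9 => [8, 9, 7, 8, 6, 7, 5, 6, 4, 5, 3, 4, 2, 3, 1, 2, 0, 1]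
  | 11 => [10, 11, 5, 10, 4, 5, 3, 4, 2, 3, 1, 2, 0, 1]
  | _ => []

/-- the lane of a generator -/
noncomputable def gpt (g : ℕ) : Pt := phi (pw gn (chain g)) pt

theorem conj_pair {a b : ℕ} (ha : a < 12) (hb : b < 12) (hadj : adjI a b = true) (hne : a ≠ b) :
    gn a * gn b * gn a * (gn a * gn b)⁻¹ = gn b := by
  have h := gn_cox ha hb hne
  rw [if_pos hadj] at h
  have e : gn a * gn b * gn a * gn b * gn a * gn b = 1 := by
    rw [← h]; simp only [pow_succ, pow_zero, one_mul, mul_assoc]
  rw [mul_inv_rev, gn_inv, gn_inv]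
  calc gn a * gn b * gn a * (gn b * gn a)
      = gn a * gn b * gn a * (gn b * gn a) * (gn b * gn b) := by rw [gn_mul_self, mul_one]
    _ = gn a * gn b * gn a * gn b * gn a * gn b * gn b := by simp only [mul_assoc]
    _ = gn b := by rw [e, one_mul]

theorem gpt_zero : gpt 0 = pt := by
  rw [gpt, show chain 0 = [] from rfl, pw_nil, map_one, Equiv.Perm.one_apply]

theorem gpt_step {a b : ℕ} (ha : a < 12) (hb : b < 12) (hadj : adjI a b = true) (hne : a ≠ b)
    (hch : chain b = [a, b] ++ chain a) (h : d (gpt a) = gn a) : d (gpt b) = gn b := by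
  have e : gpt b = phi (pw gn [a, b]) (gpt a) := by
    rw [gpt, gpt, hch, pw_append, map_mul, Equiv.Perm.mul_apply]
  rw [e, d_smul, h]
  simp only [pw, List.map_cons, List.map_nil, List.prod_cons, List.prod_nil, mul_one]
  exact conj_pair ha hb hadj hne

theorem d_gpt : ∀ g < 12, d (gpt g) = gn g := by
  have h0 : d (gpt 0) = gn 0 := by rw [gpt_zero, d_pt]
  have h1 := gpt_step (a := 0) (b := 1) (by norm_num) (by norm_num) rfl (by norm_num) rfl h0
  have h2 := gpt_step (a := 1) (b := 2) (by norm_num) (by norm_num) rfl (by norm_num) rfl h1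
  have h3 := gpt_step (a := 2) (b := 3) (by norm_num) (by norm_num) rfl (by norm_num) rfl h2
  have h4 := gpt_step (a := 3) (b := 4) (by norm_num) (by norm_num) rfl (by norm_num) rfl h3
  have h5 := gpt_step (a := 4) (b := 5) (by norm_num) (by norm_num) rfl (by norm_num) rfl h4
  have h6 := gpt_step (a := 5) (b := 6) (by norm_num) (by norm_num) rfl (by norm_num) rfl h5
  have h10 := gpt_step (a := 5) (b := 10) (by norm_num) (by norm_num) rfl (by norm_num) rfl h5
  have h7 := gpt_step (a := 6) (b := 7) (by norm_num) (by norm_num) rfl (by norm_num) rfl h6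
  have h8 := gpt_step (a := 7) (b := 8) (by norm_num) (by norm_num) rfl (by norm_num) rfl h7
  have h9 := gpt_step (a := 8) (b := 9) (by norm_num) (by norm_num) rfl (by norm_num) rfl h8
  have h11 := gpt_step (a := 10) (b := 11) (by norm_num) (by norm_num) rfl (by norm_num) rfl h10
  intro g hg
  interval_cases g
  exacts [h0, h1, h2, h3, h4, h5, h6, h7, h8, h9, h10, h11]

/-- the lanes of the generators as numbers -/
theorem gpt_val {g : ℕ} (hg : g < 12) : (gpt g).val = ptW (chain g) base := by
  have : WordOK (chain g) := (by decide : ∀ g < 12, ∀ a ∈ chain g, a < 12) g hg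
  rw [gpt, phi_pw_val this]; rfl

section

variable (H : Hyp)
include H

theorem d_injective : Function.Injective d := by
  intro i j h
  have hc : Commute ((mover j)⁻¹ * mover i) (gn 0) := by
    have e : mover i * gn 0 = mover j * gn 0 * ((mover j)⁻¹ * mover i) := by
      calc mover i * gn 0 = d i * mover i := by rw [d]; group
        _ = d j * mover i := by rw [h]
        _ = mover j * gn 0 * ((mover j)⁻¹ * mover i) := by rw [d]; group
    show (mover j)⁻¹ * mover i * gn 0 = gn 0 * ((mover j)⁻¹ * mover i)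
    rw [mul_assoc, e]; group
  have := H.stab _ hc
  rw [map_mul, map_inv, Equiv.Perm.mul_apply, Equiv.Perm.inv_eq_iff_eq, phi_mover, phi_mover]
    at this
  exact this

theorem commute_d_iff (g : G) (i : Pt) : Commute g (d i) ↔ phi g i = i := by
  rw [show Commute g (d i) ↔ g * d i * g⁻¹ = d i from mul_inv_eq_iff_eq_mul.symm, ← d_smul]
  exact ⟨fun h => d_injective H h, fun h => by rw [h]⟩

/-- an element is trivial when it fixes the lanes of the generators -/
theorem eq_one_of_fix {x : G} (h : ∀ g < 12, phi x (gpt g) = gpt g) : x = 1 := by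
  have hc : ∀ g : G, Commute x g := by
    intro g
    have hg : g ∈ Subgroup.closure (gn '' {g | g < 12}) := pw_gn_top ▸ Subgroup.mem_top g
    induction hg using Subgroup.closure_induction with
    | mem y hy =>
      obtain ⟨n, hn, rfl⟩ := hy
      rw [← d_gpt n hn, commute_d_iff H]
      exact h n hn
    | one => exact Commute.one_right _
    | mul y z _ _ hy hz => exact hy.mul_right hz
    | inv y _ hy => exact hy.inv_right
  apply H.inj
  ext i : 1
  rw [map_one, Equiv.Perm.one_apply, ← phi_mover i, ← Equiv.Perm.mul_apply, ← map_mul,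
    (hc (mover i)).eq, map_mul, Equiv.Perm.mul_apply, H.stab x (hc (gn 0))]

theorem eq_of_base {x y : G} (h : ∀ g < 12, phi x (gpt g) = phi y (gpt g)) : x = y := by
  have := eq_one_of_fix H (x := y⁻¹ * x) fun g hg => by
    rw [map_mul, map_inv, Equiv.Perm.mul_apply, h g hg, Equiv.Perm.inv_eq_iff_eq]
  rw [inv_mul_eq_one] at this
  exact this.symm

end

/-- `d i` and `d j` for commuting -/
theorem commute_d_d (H : Hyp) (i j : Pt) : Commute (d i) (d j) ↔ phi (d i) j = j :=
  commute_d_iff H (d i) j

/-- the class of transpositions -/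
def cls : Set G := Set.range d

/-- an isomorphism taking `l` into a conjugacy class takes `cls` onto it -/
theorem image_cls {R : Type*} [Group R] (e : G ≃* R) {D : Set R}
    (hconj : ∀ g : R, ∀ y ∈ D, g * y * g⁻¹ ∈ D)
    (htrans : ∀ a ∈ D, ∀ b ∈ D, ∃ g : R, g * a * g⁻¹ = b) (h : e (gn 0) ∈ D) :
    e '' cls = D := by
  ext y
  constructor
  · rintro ⟨_, ⟨i, rfl⟩, rfl⟩
    rw [d, map_mul, map_mul, map_inv]
    exact hconj _ _ h
  · intro hy
    obtain ⟨g, hg⟩ := htrans _ h y hy
    refine ⟨d (phi (e.symm g) pt), ⟨_, rfl⟩, ?_⟩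
    rw [d_smul, d_pt, map_mul, map_mul, map_inv, e.apply_symm_apply, hg]

end Cfsg.Agent.Lib.Fi24Class56
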